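import Groth.Agent.PicAux.ProjBundlePic
import Groth.Agent.DescentBase.QCohHom
import Groth.Agent.EulerDeg.FiniteSupport
import Groth.Agent.KTheory.LocFree
import Groth.Agent.LocFree.Basic

/-! Twists on projective space are invariant under all automorphisms of the scheme. -/

set_option autoImplicit false
set_option linter.style.haveILetI false
set_option backward.isDefEq.respectTransparency false

universe u

open CategoryTheory Limits AlgebraicGeometry TopologicalSpace Groth.PicAux Groth.Abvar.PicCalc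
open Groth.PicAux.ProjBundlePic

noncomputable section

namespace Groth.Misc12.TwistForms

variable (n : ℕ) (K : Type u) [Field K]

/-- The twist as a group hom. -/
theorem twK_eq_zpow (d : ℤ) : twK n K d = twK n K 1 ^ d := by
  induction d using Int.induction_on with
  | zero => rw [zpow_zero, twK_zero]
  | succ i ih => rw [twK_add, ih, zpow_add_one]
  | pred i ih => rw [sub_eq_add_neg, twK_add, ih, twK_neg n K 1, zpow_add, zpow_neg_one]

theorem isEmpty_iso_neg (hn : 1 ≤ n) (g : CohB1.ProjSpace n K ⟶ CohB1.ProjSpace n K) [IsIso g] :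
    ¬ Nonempty ((Scheme.Modules.pullback g).obj (Twist.twistProjSpace n K ((1 : ℕ) : ℤ)) ≅
      Twist.twistProjSpace n K (-1)) := by
  rintro ⟨e⟩
  haveI : (Twist.twistProjSpace n K ((1 : ℕ) : ℤ)).IsQuasicoherent := Groth.KTheory.LocFree.isQCoh
    (Groth.LocFree.isFinLocFree_of_rank (Groth.LocFree.isInvertible_iff_ofRank_one.1 (isInvertible_twK n K _)))
  haveI h0 : Subsingleton (Coh.HH (CohB1.ProjSpace n K) (Twist.twistProjSpace n K (-1)) 0) :=
    PnCoh.subsingleton_HH_twist (n := n) (R := K) (-1) 0 (by omega) (by omega)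
  haveI : Subsingleton Γ(Twist.twistProjSpace n K (-1), ⊤) :=
    (Sheaf.H.equiv₀ (Coh.toAb (Twist.twistProjSpace n K (-1))) (isTerminalTop : IsTerminal (⊤ : Opens (CohB1.ProjSpace n K)))).symm.toEquiv.subsingleton
  haveI : Subsingleton Γ(Twist.twistProjSpace n K ((1 : ℕ) : ℤ), ⊤) := ⟨fun s t => by
    refine Groth.DescentBase.pullSec_injective (ι := PUnit.{u + 1}) (f := fun _ => g)
      (fun x => ⟨⟨⟩, (inv g) x, by rw [← Scheme.Hom.comp_apply, IsIso.inv_hom_id]; rfl⟩) fun _ => ?_
    refine (ConcreteCategory.bijective_of_isIso (e.hom.app (g ⁻¹ᵁ ⊤))).1 ?_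
    exact Subsingleton.elim (α := Γ(Twist.twistProjSpace n K (-1), ⊤)) _ _⟩
  haveI : Subsingleton ((Coh.toAb (Twist.twistProjSpace n K ((1 : ℕ) : ℤ))).obj.obj (Opposite.op (⊤ : Opens (CohB1.ProjSpace n K)))) :=
    ‹Subsingleton Γ(Twist.twistProjSpace n K ((1 : ℕ) : ℤ), ⊤)›
  haveI : Subsingleton (Coh.HH (CohB1.ProjSpace n K) (Twist.twistProjSpace n K ((1 : ℕ) : ℤ)) 0) :=
    (Sheaf.H.equiv₀ (Coh.toAb (Twist.twistProjSpace n K ((1 : ℕ) : ℤ))) (isTerminalTop : IsTerminal (⊤ : Opens (CohB1.ProjSpace n K)))).toEquiv.subsingleton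
  have h : Subsingleton (MvPolynomial.homogeneousSubmodule (Fin (n + 1)) K 1) :=
    (PnCoh.h0Equiv (n := n) (R := K) 1).toEquiv.subsingleton
  exact MvPolynomial.X_ne_zero (R := K) (0 : Fin (n + 1)) (congrArg Subtype.val
    (h.elim ⟨MvPolynomial.X 0, MvPolynomial.isHomogeneous_X _ _⟩ 0))

/-- Twists are invariant under automorphisms. -/
theorem pull_twK (g : CohB1.ProjSpace n K ⟶ CohB1.ProjSpace n K) [IsIso g] (d : ℤ) :
    pull g (twK n K d) = twK n K d := by
  rcases Nat.eq_zero_or_pos n with rfl | hn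
  · have := subsingleton_projSpace_zero K
    rw [eq_one_of_subsingleton (twK 0 K d), map_one]
  suffices h : pull g (twK n K 1) = twK n K 1 by rw [twK_eq_zpow, map_zpow, h]
  obtain ⟨a, ha⟩ := exists_eq_twK K (pull g (twK n K 1))
  obtain ⟨b, hb⟩ := exists_eq_twK K (pull (inv g) (twK n K 1))
  have hab : twK n K (b * a) = twK n K 1 := by
    have h := congrArg (pull (inv g)) ha
    rw [← pull_comp, IsIso.inv_hom_id, pull_id, twK_eq_zpow n K a, map_zpow, hb, twK_eq_zpow n K b,
      ← zpow_mul, ← twK_eq_zpow] at h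
    exact h.symm
  rcases Int.eq_one_or_neg_one_of_mul_eq_one' (twK_injective K hn hab) with ⟨-, h⟩ | ⟨-, h⟩
  · rw [ha, h]
  · exfalso
    subst h
    refine isEmpty_iso_neg n K hn g ((nonempty_iso_iff (PicLoc.isInvertible_pullback g (isInvertible_twK n K _))
      (isInvertible_twK n K (-1))).2 ?_)
    rw [← pull_cls _ (isInvertible_twK n K _)]
    exact ha

end Groth.Misc12.TwistForms
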