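import Groth.Agent.Misc12.TwistForms.FiniteBase
import Groth.Agent.Misc12.TwistForms.Invariant
import Groth.Agent.Misc12.NDeuring.Descent
import Groth.Agent.Misc12.NDeuring.TwPowRank
import Groth.Agent.Misc12.NDeuring.InvertibleType
import Groth.Agent.CohBase.AffineBC
import Groth.Agent.Curves1.RR.OddDeg

/-! Every twisting sheaf is the type of a bundle on a form of projective space. -/

set_option autoImplicit false
set_option linter.style.haveILetI false
set_option backward.isDefEq.respectTransparency false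

universe u

open CategoryTheory Limits AlgebraicGeometry TopologicalSpace TensorProduct Groth.PicAux Groth.Abvar.PicCalc
open Groth.VBCurves W4c1astiltbs12 Groth.Misc12.NDeuring

noncomputable section

namespace Groth.Misc12.TwistForms

variable {k : Type u} [Field k] {X : Scheme.{u}} (f : X ⟶ Spec (CommRingCat.of k)) {n : ℕ}
variable {K : Type u} [Field K] [Algebra k K] (e : BrSev.Splitting f K n)

theorem flat_of_field {F : Type u} [Field F] {S : Type u} [CommRing S] (φ : F →+* S) : φ.Flat := by
  let := φ.toAlgebra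
  exact RingHom.flat_algebraMap_iff.2 inferInstance

theorem galAct_galAct_symm (τ : K ≃ₐ[k] K) : galAct f K τ ≫ galAct f K τ.symm = 𝟙 _ := by
  refine pullback.hom_ext ?_ ?_
  · simp [galAct]
  · simp only [galAct, Category.assoc, pullback.lift_snd, pullback.lift_snd_assoc, Category.id_comp]
    rw [← Spec.map_comp, ← CommRingCat.ofHom_comp]
    refine (congrArg (fun t => pullback.snd f _ ≫ Spec.map t) (?_ : _ = 𝟙 _)).trans (by
      rw [Spec.map_id]; exact Category.comp_id _)
    ext x
    exact τ.apply_symm_apply x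

instance isIso_galAct' (τ : K ≃ₐ[k] K) : IsIso (galAct f K τ) := by
  refine ⟨⟨galAct f K τ.symm, galAct_galAct_symm f τ, ?_⟩⟩
  have h := galAct_galAct_symm f τ.symm
  rwa [AlgEquiv.symm_symm] at h

/-- Twists are invariant under the Galois action. -/
theorem nonempty_galAct_twist (τ : K ≃ₐ[k] K) (j : ℤ) :
    Nonempty ((Scheme.Modules.pullback (galAct f K τ)).obj (e.twist j) ≅ e.twist j) := by
  let gg : CohB1.ProjSpace n K ⟶ CohB1.ProjSpace n K :=
    e.iso.inv ≫ (galAct f K τ : BrSev.bc f K ⟶ BrSev.bc f K) ≫ e.iso.hom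
  have h := pull_twK n K gg j
  have hcls : cls (Groth.Misc12.NDeuring.isInvertible_twist f e j) = pull e.iso.hom (ProjBundlePic.twK n K j) :=
    (pull_cls e.iso.hom (ProjBundlePic.isInvertible_twK n K j)).symm
  refine (nonempty_iso_iff (PicLoc.isInvertible_pullback _ (Groth.Misc12.NDeuring.isInvertible_twist f e j))
    (Groth.Misc12.NDeuring.isInvertible_twist f e j)).2 ?_
  rw [← pull_cls _ (Groth.Misc12.NDeuring.isInvertible_twist f e j), hcls]
  conv_rhs => rw [← h, ← pull_comp]
  rw [← pull_comp]
  congr 2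
  simp [gg]

/-- The direct image of a model of the twist. -/
theorem exists_bundle [IsProper f] [IsAlgClosure k K] (j : ℤ) :
    ∃ (E : X.Modules) (d : ℕ), FlatMod.IsFinLocFree E ∧ 0 < d ∧
      Nonempty (bcMod f K E ≅ W4c1astiltbs12.pow (e.twist j) d) := by
  haveI : IsAlgClosed K := IsAlgClosure.isAlgClosed k
  haveI : Algebra.IsAlgebraic k K := IsAlgClosure.isAlgebraic
  haveI : Normal k K := IsAlgClosure.normal k K
  haveI : IsLocallyNoetherian X := LocallyOfFiniteType.isLocallyNoetherian f
  let W : (W4bk4gw11416.baseChange f K).Modules := e.twist j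
  have hWinv : PicF.IsInvertible W := Groth.Misc12.NDeuring.isInvertible_twist f e j
  let q : BrSev.bc f K ⟶ Spec (CommRingCat.of K) := BrSev.bcTo f K
  haveI : IsProper q := MorphismProperty.pullback_snd _ _ ‹IsProper f›
  haveI : IsLocallyNoetherian (W4bk4gw11416.baseChange f K) := LocallyOfFiniteType.isLocallyNoetherian q
  have hWl := isFinLocFree_of_isInvertible hWinv
  have hWc := Groth.KTheory.LocFree.isCoh hWl
  haveI : W.IsQuasicoherent := hWc.1
  obtain ⟨L, hLfin, V, hVq, -, ⟨eV⟩⟩ := exists_subfield_stage f K W (Groth.FlatStrata.isFP_of_isCoh hWc)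
  -- the extension of points
  have hflat : ∀ σ : L →ₐ[k] K, Flat (embProj f L K σ) ∧ Surjective (embProj f L K σ) ∧ QuasiCompact (embProj f L K σ) := by
    intro σ
    let s := Spec.map (CommRingCat.ofHom σ.toRingHom)
    have hsq : IsPullback (embProj f L K σ) q (pullback.snd f (Spec.map (CommRingCat.ofHom (algebraMap k L)))) s := by
      refine IsPullback.of_right ?_ (pullback.lift_snd _ _ _) (IsPullback.of_hasPullback _ _)
      rw [embProj_proj, spec_comp]
      exact IsPullback.of_hasPullback _ _
    haveI : Flat s := by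
      rw [Flat.SpecMap_iff]
      exact flat_of_field σ.toRingHom
    haveI : Surjective s := ⟨fun y => ⟨(⊥ : PrimeSpectrum K), Subsingleton.elim (α := PrimeSpectrum L) _ _⟩⟩
    exact ⟨MorphismProperty.of_isPullback hsq.flip ‹Flat s›, MorphismProperty.of_isPullback hsq.flip ‹Surjective s›,
      MorphismProperty.of_isPullback hsq.flip inferInstance⟩
  have hVinv : PicF.IsInvertible V := by
    obtain ⟨h₁, h₂, h₃⟩ := hflat L.val
    have hpb : PicF.IsInvertible ((Scheme.Modules.pullback (embProj f L K L.val)).obj V) :=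
      Groth.PicAux.isInvertible_of_iso hWinv eV.symm
    exact Groth.Curves1.RR.isInvertible_of_pullback (embProj f L K L.val)
      (Groth.DescentBase.QCohFpqc.isFinLocFree_of_pullback (embProj f L K L.val) V
        (isFinLocFree_of_isInvertible hpb)) hpb
  have hN : ∀ σ : L →ₐ[k] K, Nonempty ((Scheme.Modules.pullback (embProj f L K σ)).obj V ≅ W) := fun σ => by
    let τ₀ : K →ₐ[k] K := σ.liftNormal K
    have hτ₀ : ∀ x : L, τ₀ (x : K) = σ x := fun x => σ.liftNormal_commutes K x
    let τ : K ≃ₐ[k] K := AlgEquiv.ofBijective τ₀ (Algebra.IsAlgebraic.algHom_bijective τ₀)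
    have hcomp : galAct f K τ ≫ embProj f L K L.val = embProj f L K σ := by
      refine pullback.hom_ext ?_ ?_
      · simp only [embProj, galAct, Category.assoc, pullback.lift_fst]
        simp
      · simp only [embProj, galAct, Category.assoc, pullback.lift_snd, pullback.lift_snd_assoc]
        rw [← Spec.map_comp]
        congr 2
        ext x
        exact hτ₀ x
    exact ⟨((Scheme.Modules.pullbackCongr hcomp).app V).symm ≪≫
      ((Scheme.Modules.pullbackComp _ _).app V).symm ≪≫
        (Scheme.Modules.pullback (galAct f K τ)).mapIso eV ≪≫ (nonempty_galAct_twist f e τ j).some⟩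
  -- the finite algebra
  let A := K ⊗[k] L
  let iR : L →+* A := (Algebra.TensorProduct.includeRight : L →ₐ[k] A).toRingHom
  let sK := Spec.map (CommRingCat.ofHom (algebraMap k K))
  let sL := Spec.map (CommRingCat.ofHom (algebraMap k L))
  let sA := Spec.map (CommRingCat.ofHom (algebraMap K A))
  have hA : IsPullback (Spec.map (CommRingCat.ofHom iR)) sA sL sK :=
    (isPullback_SpecMap_of_isPushout _ _ _ _
      (CommRingCat.isPushout_tensorProduct k K L)).flip
  let g' : ext q A ⟶ W4bk4gw11416.baseChange f L :=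
    pullback.lift (prY q A ≫ BrSev.proj f K) (piA q A ≫ Spec.map (CommRingCat.ofHom iR)) (by
      rw [Category.assoc, pullback.condition, ← Category.assoc, pullback.condition, Category.assoc,
        Category.assoc, hA.w])
  have hout : IsPullback (prY q A ≫ BrSev.proj f K) (piA q A) f (sA ≫ sK) :=
    (IsPullback.of_hasPullback q sA).paste_horiz (IsPullback.of_hasPullback f sK)
  have hsq1 : IsPullback g' (piA q A) (pullback.snd f sL) (Spec.map (CommRingCat.ofHom iR)) := by
    refine IsPullback.of_right ?_ (pullback.lift_snd _ _ _) (IsPullback.of_hasPullback f sL)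
    rw [hA.w]
    have hl : g' ≫ proj f L = prY q A ≫ BrSev.proj f K := pullback.lift_fst _ _ _
    show IsPullback (g' ≫ proj f L) _ _ _
    rw [hl]
    exact hout
  have hsq : IsPullback g' (prY q A) (proj f L) (BrSev.proj f K) := by
    have h2 : IsPullback g' (piA q A ≫ sA) (pullback.snd f sL ≫ sL) sK := hsq1.paste_vert hA
    refine IsPullback.of_bot ?_ (pullback.lift_fst _ _ _) (IsPullback.of_hasPullback f sK)
    rw [pullback.condition, show proj f L ≫ f = pullback.snd f sL ≫ sL from pullback.condition]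
    exact h2
  haveI : IsAffineHom (proj f L) := MorphismProperty.pullback_fst _ _ inferInstance
  obtain ⟨ebc⟩ := CohBase.AffineBC.nonempty_affine_bc hsq V
  -- constant restrictions
  have hE : PicF.IsInvertible ((Scheme.Modules.pullback g').obj V) := PicLoc.isInvertible_pullback _ hVinv
  have hpt : ∀ φ : A →ₐ[K] K,
      Nonempty ((Scheme.Modules.pullback (sec q φ)).obj ((Scheme.Modules.pullback g').obj V) ≅ W) := fun φ => by
    let σ : L →ₐ[k] K := (φ.restrictScalars k).comp Algebra.TensorProduct.includeRight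
    have hcomp : sec q φ ≫ g' = embProj f L K σ := by
      refine pullback.hom_ext ?_ ?_
      · simp [g', embProj, sec_prY_assoc]
      · simp only [g', embProj, Category.assoc, pullback.lift_snd, sec_piA_assoc]
        rw [← Spec.map_comp]
        rfl
    exact ⟨(Scheme.Modules.pullbackComp _ _).app V ≪≫
      (Scheme.Modules.pullbackCongr hcomp).app V ≪≫ (hN σ).some⟩
  have hsqT : IsPullback (e.iso.hom ≫ PnCoh.toInt n K) q (CohB1.ProjSpace.toSpec n (ULift.{u} ℤ))
      (specULiftZIsTerminal.from (Spec (CommRingCat.of K))) := by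
    refine (PnCoh.isPullback_toInt n K).of_iso e.iso.symm (Iso.refl _) (Iso.refl _) (Iso.refl _) ?_ ?_ ?_ ?_
    · simp
    · show CohB1.ProjSpace.toSpec n K ≫ 𝟙 _ = e.iso.inv ≫ q
      rw [Category.comp_id, Iso.eq_inv_comp]
      exact e.comm
    · simp
    · simp
  haveI : IsNoetherianRing (CommRingCat.of (ULift.{u} ℤ)) :=
    isNoetherianRing_of_ringEquiv ℤ ULift.ringEquiv.{0, u}.symm
  haveI := ProjBundlePic.flat_toSpec.{u} n
  haveI : IsProper (CohB1.ProjSpace.toSpec n (ULift.{u} ℤ)) := Variety2.isProper_projSpace_toSpec n _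
  obtain ⟨ep⟩ := nonempty_push_iso_pow q (CohB1.ProjSpace.toSpec n (ULift.{u} ℤ)) hsqT hE hWinv hpt
    (fun K' _ b Q m q' H => ProjBundlePic.h1_projSpace K' b Q m q' H)
  let eE : bcMod f K (down f L V) ≅ W4c1astiltbs12.pow W (Module.finrank K A) := ebc ≪≫ ep
  haveI : Flat sK := by
    rw [Flat.SpecMap_iff]
    exact RingHom.flat_algebraMap_iff.2 inferInstance
  haveI : Surjective sK := ⟨fun y => ⟨(⊥ : PrimeSpectrum K), Subsingleton.elim (α := PrimeSpectrum k) _ _⟩⟩
  haveI : QuasiCompact (proj f K) := MorphismProperty.pullback_fst _ _ inferInstance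
  haveI : Flat (proj f K) := MorphismProperty.pullback_fst _ _ ‹Flat sK›
  haveI : Surjective (proj f K) := MorphismProperty.pullback_fst _ _ ‹Surjective sK›
  haveI : (down f L V).IsQuasicoherent := Groth.QCohMod.isQCoh_pushforward (M := V) (proj f L)
  refine ⟨down f L V, Module.finrank K A, ?_, ?_, ⟨eE⟩⟩
  · exact Groth.DescentBase.QCohFpqc.isFinLocFree_of_pullback (proj f K) _
      (Groth.KTheory.LocFree.isFinLocFree_of_iso eE.symm (isFinLocFree_pow hWl _))
  · rw [Module.finrank_baseChange]
    exact Module.finrank_pos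

/-- Every twisting sheaf is the type of an indecomposable bundle. -/
theorem exists_indecomposable [IsProper f] [IsAlgClosure k K] (j : ℤ) :
    ∃ (W : X.Modules) (r : ℕ), FlatMod.IsFinLocFree W ∧ KS.Ind W ∧ 0 < r ∧ BrSev.IsTwPow e j r W := by
  haveI : Algebra.IsAlgebraic k K := IsAlgClosure.isAlgebraic
  haveI : IsLocallyNoetherian X := LocallyOfFiniteType.isLocallyNoetherian f
  haveI : ConnectedSpace (W4bk4gw11416.baseChange f K) := connected_of_splitting f e
  have hWinv : PicF.IsInvertible (e.twist j) := Groth.Misc12.NDeuring.isInvertible_twist f e j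
  haveI : IsProper (BrSev.bcTo f K) := MorphismProperty.pullback_snd _ _ ‹IsProper f›
  haveI : IsLocallyNoetherian (W4bk4gw11416.baseChange f K) :=
    LocallyOfFiniteType.isLocallyNoetherian (BrSev.bcTo f K)
  have hWi : KS.Ind (e.twist j : (W4bk4gw11416.baseChange f K).Modules) := ind_of_isInvertible hWinv
  have hWc := Groth.KTheory.LocFree.isCoh (isFinLocFree_of_isInvertible hWinv)
  obtain ⟨E, d, hE, hd, ⟨eE⟩⟩ := exists_bundle f e j
  have hE0 : ¬ IsZero E := fun hz => hWi.1 (by
    have hz' : IsZero (W4c1astiltbs12.pow (e.twist j) d) :=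
      ((Scheme.Modules.pullback (proj f K)).map_isZero hz).of_iso eE.symm
    rw [IsZero.iff_id_eq_zero]
    let i : e.twist j ⟶ W4c1astiltbs12.pow (e.twist j) d := Sigma.ι (fun _ : Fin d => e.twist j) ⟨0, hd⟩
    have : i ≫ (Sigma.desc fun _ => 𝟙 _) = 𝟙 _ := Sigma.ι_desc _ _
    rw [← this, hz'.eq_of_tgt i 0, zero_comp])
  obtain ⟨G, m, a, hG, hGi, -, -, ⟨ea⟩⟩ := exists_indecomposable_pow f K hWc hWi hE hE0 eE
  refine ⟨G, a, hG, hGi, Nat.pos_of_ne_zero ?_, ⟨ea⟩⟩
  rintro rfl
  have hGc := Groth.KTheory.LocFree.isCoh hG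
  have hz : IsZero (bcMod f K G) := (KS.isZero_coprod_zero _).of_iso ea
  have hz0 : IsZero (bcMod f K (W4c1astiltbs12.pow G 0)) :=
    (Scheme.Modules.pullback (proj f K)).map_isZero (KS.isZero_coprod_zero _)
  obtain ⟨u⟩ := iso_of_bc_iso f K hGc (isCoh_pow hGc 0) (hz.iso hz0)
  exact hGi.1 ((KS.isZero_coprod_zero _).of_iso u)

end Groth.Misc12.TwistForms
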