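import Groth.Agent.Misc12.TwistForms.Seesaw
import Groth.Agent.Misc12.NDeuring.Main
import Groth.Agent.PicAux.Pullback
import Mathlib.FieldTheory.IsAlgClosed.Basic
import Mathlib.RingTheory.Spectrum.Prime.Topology

/-! Invertible modules on families over finite algebras with constant restrictions to the points. -/

set_option autoImplicit false
set_option linter.style.haveILetI false
set_option backward.isDefEq.respectTransparency false

universe u

open CategoryTheory Limits AlgebraicGeometry TopologicalSpace Groth.PicAux Groth.Abvar.Seesaw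
open Groth.Abvar.PicCalc

noncomputable section

namespace Groth.Misc12.TwistForms

variable {K : Type u} [Field K] {Y : Scheme.{u}} (q : Y ⟶ Spec (CommRingCat.of K))
variable (A : Type u) [CommRing A] [Algebra K A]

/-- The base change to an algebra. -/
abbrev ext : Scheme.{u} := pullback q (Spec.map (CommRingCat.ofHom (algebraMap K A)))

/-- The projection from the base change. -/
abbrev prY : ext q A ⟶ Y := pullback.fst q (Spec.map (CommRingCat.ofHom (algebraMap K A)))

/-- The structure map of the base change. -/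
abbrev piA : ext q A ⟶ Spec (CommRingCat.of A) := pullback.snd q (Spec.map (CommRingCat.ofHom (algebraMap K A)))

variable {A}

theorem spec_point (φ : A →ₐ[K] K) :
    Spec.map (CommRingCat.ofHom φ.toRingHom) ≫ Spec.map (CommRingCat.ofHom (algebraMap K A)) = 𝟙 _ := by
  rw [← Spec.map_comp, ← Spec.map_id]
  congr 1
  ext a
  exact φ.commutes a

/-- The section at a point. -/
def sec (φ : A →ₐ[K] K) : Y ⟶ ext q A :=
  pullback.lift (𝟙 Y) (q ≫ Spec.map (CommRingCat.ofHom φ.toRingHom))
    (by rw [Category.assoc, spec_point, Category.id_comp, Category.comp_id])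

@[reassoc (attr := simp)]
theorem sec_prY (φ : A →ₐ[K] K) : sec q φ ≫ prY q A = 𝟙 Y := pullback.lift_fst _ _ _

@[reassoc (attr := simp)]
theorem sec_piA (φ : A →ₐ[K] K) : sec q φ ≫ piA q A = q ≫ Spec.map (CommRingCat.ofHom φ.toRingHom) :=
  pullback.lift_snd _ _ _

/-- Triviality on the fibre over a rational point. -/
theorem fibTriv_of_point {E : (ext q A).Modules} (φ : A →ₐ[K] K)
    (h : Nonempty ((Scheme.Modules.pullback (sec q φ)).obj E ≅ Coh.structureModule Y))
    (y : Spec (CommRingCat.of A)) (hy : (Spec.map (CommRingCat.ofHom φ.toRingHom)) (IsLocalRing.closedPoint K) = y) :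
    FibTriv (piA q A) E y := by
  subst hy
  let t := Spec.map (CommRingCat.ofHom φ.toRingHom)
  let d := (Spec (CommRingCat.of A)).descResidueField (Scheme.stalkClosedPointTo t)
  have hd : Spec.map d ≫ (Spec (CommRingCat.of A)).fromSpecResidueField _ = t :=
    Scheme.descResidueField_stalkClosedPointTo_fromSpecResidueField _ _ t
  let γ := Spec.preimage ((Spec (CommRingCat.of A)).fromSpecResidueField (t (IsLocalRing.closedPoint K)))
  have hγ : γ ≫ d = CommRingCat.ofHom φ.toRingHom :=
    Spec.map_injective (by rw [Spec.map_comp, Spec.map_preimage, hd])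
  have hd' : Function.Bijective d.hom := by
    refine ⟨d.hom.injective, fun x => ⟨γ.hom (algebraMap K A x), ?_⟩⟩
    show (γ ≫ d).hom (algebraMap K A x) = x
    rw [hγ]
    exact φ.commutes x
  haveI : IsIso d := (ConcreteCategory.isIso_iff_bijective d).2 hd'
  have hfrom : (Spec (CommRingCat.of A)).fromSpecResidueField _ = inv (Spec.map d) ≫ t :=
    (IsIso.eq_inv_comp _).2 hd
  refine trivial_of_factor (g := sec q φ) ((piA q A).fiberι _ ≫ prY q A) (pullback.hom_ext ?_ ?_) h
  · simp
  · simp only [Category.assoc, sec_piA]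
    rw [pullback.condition_assoc, ← Category.assoc, show (piA q A).fiberι _ ≫ piA q A =
      (piA q A).fiberToSpecResidueField _ ≫ (Spec (CommRingCat.of A)).fromSpecResidueField _ from
        Scheme.Hom.fiber_fac _ _, hfrom]
    simp only [Category.assoc]
    rw [← Category.assoc (Spec.map (CommRingCat.ofHom φ.toRingHom)), spec_point, Category.id_comp]

variable {R : CommRingCat.{u}} {T : Scheme.{u}} (g : T ⟶ Spec R) [IsNoetherianRing R] [IsProper g] [Flat g]
  [GeometricallyIntegral g] {pY : Y ⟶ T} {aY : Spec (CommRingCat.of K) ⟶ Spec R}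
  (sq : IsPullback pY q g aY)

include sq in
/-- The direct image of an invertible module with constant restrictions to the points is a power. -/
theorem nonempty_push_iso_pow [IsAlgClosed K] [Module.Finite K A] {E : (ext q A).Modules}
    (hE : PicF.IsInvertible E) {M₀ : Y.Modules} (hM₀ : PicF.IsInvertible M₀)
    (hpt : ∀ φ : A →ₐ[K] K, Nonempty ((Scheme.Modules.pullback (sec q φ)).obj E ≅ M₀))
    (h1 : ∀ (K' : Type u) [Field K'] (b : Spec (CommRingCat.of K') ⟶ Spec R) (Q : Scheme.{u})
      (m : Q ⟶ T) (q' : Q ⟶ Spec (CommRingCat.of K')), IsPullback m q' g b →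
        Subsingleton (Coh.HH Q (Coh.structureModule Q) 1)) :
    Nonempty ((Coh.push (prY q A)).obj E ≅ W4c1astiltbs12.pow M₀ (Module.finrank K A)) := by
  haveI : IsArtinianRing A := IsArtinianRing.of_finite K A
  obtain ⟨E₀, hE₀, hc⟩ := PicGrp.exists_eq_cls (cls hE * (pull (prY q A) (cls hM₀))⁻¹)
  change cls hE * (pull (prY q A) (cls hM₀))⁻¹ = cls hE₀ at hc
  have hfib : ∀ y, FibTriv (piA q A) E₀ y := fun y => by
    have : y.asIdeal.IsMaximal := inferInstance
    let := Ideal.Quotient.field y.asIdeal
    have hb : Function.Bijective (Algebra.ofId K (A ⧸ y.asIdeal)) :=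
      IsAlgClosed.algebraMap_bijective_of_isIntegral
    let φ : A →ₐ[K] K := (AlgEquiv.ofBijective _ hb).symm.toAlgHom.comp (Ideal.Quotient.mkₐ K y.asIdeal)
    refine fibTriv_of_point q φ ((nonempty_iso_structure_iff (PicLoc.isInvertible_pullback _ hE₀)).2 ?_) y ?_
    · rw [← pull_cls _ hE₀, ← hc, map_mul, map_inv, ← pull_comp, sec_prY, pull_id, pull_cls,
        (nonempty_iso_iff (PicLoc.isInvertible_pullback _ hE) hM₀).1 (hpt φ)]
      exact mul_inv_cancel _
    · refine PrimeSpectrum.ext ?_
      show Ideal.comap φ.toRingHom (IsLocalRing.maximalIdeal K) = y.asIdeal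
      rw [IsLocalRing.maximalIdeal_eq_bot]
      ext a
      rw [Ideal.mem_comap, Ideal.mem_bot]
      show (AlgEquiv.ofBijective _ hb).symm (Ideal.Quotient.mk y.asIdeal a) = 0 ↔ _
      rw [map_eq_zero_iff _ (AlgEquiv.injective _), Ideal.Quotient.eq_zero_iff_mem]
  obtain ⟨hinv, hiso⟩ := pushforward_counit_of_forall g
    ((IsPullback.of_hasPullback q (Spec.map (CommRingCat.ofHom (algebraMap K A)))).paste_horiz sq) hE₀ hfib h1
  haveI : DiscreteTopology ↥(Spec (CommRingCat.of A)) := inferInstanceAs (DiscreteTopology (PrimeSpectrum A))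
  obtain ⟨u⟩ := nonempty_iso_structure_of_discrete hinv
  obtain ⟨v⟩ := pullback_structure_iso (piA q A)
  have h0 : cls hE₀ = 1 := (nonempty_iso_structure_iff hE₀).1
    ⟨(asIso ((Scheme.Modules.pullbackPushforwardAdjunction (piA q A)).counit.app E₀)).symm ≪≫
      (Scheme.Modules.pullback (piA q A)).mapIso u ≪≫ v⟩
  rw [h0, mul_inv_eq_one, pull_cls] at hc
  obtain ⟨w⟩ := (nonempty_iso_iff hE (PicLoc.isInvertible_pullback _ hM₀)).2 hc
  haveI : IsAffineHom (prY q A) := MorphismProperty.pullback_fst _ _ inferInstance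
  haveI : M₀.IsQuasicoherent := Groth.KTheory.LocFree.isQCoh
    (Groth.LocFree.isFinLocFree_of_rank (Groth.LocFree.isInvertible_iff_ofRank_one.1 hM₀))
  obtain ⟨i⟩ := Groth.Misc12.NDeuring.nonempty_iso_push_pull (prY q A) M₀ _
    (Groth.Misc12.NDeuring.bijective_basis_sum q A (Module.finBasis K A) (prY q A) (piA q A)
      (IsPullback.of_hasPullback _ _))
  exact ⟨(Coh.push (prY q A)).mapIso w ≪≫ i.symm⟩

end Groth.Misc12.TwistForms
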