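import Groth.Agent.PicAux.SeesawAnyBase
import Groth.Agent.PicAux.GenLocal
import Mathlib.Topology.Compactness.Compact

/-! Seesaw over a base which need not be connected; invertible modules on discrete spaces. -/

set_option autoImplicit false
set_option linter.style.haveILetI false
set_option backward.isDefEq.respectTransparency false

universe u

open CategoryTheory Limits AlgebraicGeometry TopologicalSpace Groth.PicAux Groth.Abvar.Seesaw

noncomputable section

namespace Groth.Misc12.TwistForms

variable {R : CommRingCat.{u}} {T : Scheme.{u}} (g : T ⟶ Spec R) [IsNoetherianRing R] [IsProper g] [Flat g]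
  [GeometricallyIntegral g] {P S : Scheme.{u}} {p : P ⟶ T} {π : P ⟶ S} {a : S ⟶ Spec R}
  (sq : IsPullback p π g a) {E : P.Modules} (hE : PicF.IsInvertible E)

include sq hE in
/-- Seesaw: a module trivial on all fibres comes from the base. -/
theorem pushforward_counit_of_forall (ht : ∀ y, FibTriv π E y)
    (h1 : ∀ (K : Type u) [Field K] (b : Spec (CommRingCat.of K) ⟶ Spec R) (Q : Scheme.{u})
      (m : Q ⟶ T) (q : Q ⟶ Spec (CommRingCat.of K)), IsPullback m q g b →
        Subsingleton (Coh.HH Q (Coh.structureModule Q) 1)) :
    PicF.IsInvertible ((Scheme.Modules.pushforward π).obj E) ∧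
      IsIso ((Scheme.Modules.pullbackPushforwardAdjunction π).counit.app E) := by
  choose U hyU s hs using fun y => SeesawAnyBase.exists_gen_near g sq hE y h1 (ht y)
  exact PicAux.pushforward_invertible_and_counit π (SeesawAnyBase.app_bijective g sq) U
    (eq_top_iff.2 fun y _ => Opens.mem_iSup.2 ⟨y, hyU y⟩) s hs

/-- An invertible module on a discrete space is trivial. -/
theorem nonempty_iso_structure_of_discrete {X : Scheme.{u}} [DiscreteTopology X] {L : X.Modules}
    (hL : PicF.IsInvertible L) : Nonempty (L ≅ Coh.structureModule X) := by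
  choose U s hx hs using (isInvertible_iff_exists_gen L).1 hL
  let V : X → X.Opens := fun x => ⟨{x}, isOpen_discrete _⟩
  have hVU : ∀ x, V x ≤ U x := fun x y hy => by
    obtain rfl : y = x := hy
    exact hx _
  have hc : (⊤ : X.Opens) ≤ iSup V := fun x _ => Opens.mem_iSup.2 ⟨x, rfl⟩
  obtain ⟨t, ht, -⟩ := res_glue (M := L) V (fun _ => le_top) hc (fun x => res L (hVU x) (s x)) (fun x y => by
    by_cases h : x = y
    · subst h
      rfl
    · refine res_ext (fun e : PEmpty.{1} => e.elim) (fun e => e.elim) (fun z hz => ?_) fun e => e.elim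
      exact absurd ((show z = x from hz.1).symm.trans (show z = y from hz.2)) h)
  refine nonempty_iso_structure_iff.2 ⟨t, Gen.of_cover V (fun _ => le_top) hc fun x => ?_⟩
  rw [ht x]
  exact (hs x).res _

end Groth.Misc12.TwistForms
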